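import Cfsg.Agent.Omega.FOne.Q.Tv
import Cfsg.Agent.Omega.NO3S.FarQ.FlagK

/-!
# (F1) for `q ≥ 4` from the case `q = 2` (bb OMEGA #21680, THEOREM Q)

`H` acts on `W`, centralises `R`, `π : W → M` is onto with kernel `R`, `lam = V / R` of order `≥ 4` is fixed by the Sylow
group `T`, `[v, T] = R` for `v ∈ V - R` (`full`), `C_M(T) ≤ lam` (`fixM`).

* `exists_index_two` : `R₀ < R` of index 2;
* **`false_of`** : no exact quadratic `A ≠ 1` in `O₂(C_H(lam))` which centralises `V`, if (ML) and `PTv` (the case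
  `q = 2`) hold.
-/

set_option autoImplicit false
set_option linter.unusedSectionVars false

namespace Cfsg.Agent.Omega.FOne.Q

open Subgroup Cfsg
open Cfsg.Agent.Omega.FOne.NOv (PTv)
open Cfsg.Agent.ClassTwoFusion.Quad (cv mem_cv)
open Cfsg.Agent.Omega.NO3S.FarQ (FlagK Exact zm fixer)
open Cfsg.Agent.Omega.NO3S.FarQ.FOneAbs (Dat)
open Cfsg.Agent.Omega.ML.MinFrame (orb fxr)
open Cfsg.Agent.ZN (o2)
open Cfsg.Agent.MinSimple.VModule (o2_le o2_isPGroup le_normalizer_o2)

universe u

/-- a complement of order two -/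
theorem exists_index_two {W : Type*} [CommGroup W] [Finite W] (sq : ∀ w : W, w * w = 1) (R : Subgroup W) {y : W}
    (y1 : y ≠ 1) : ∃ R₀ ≤ R, y ∉ R₀ ∧ ∀ r ∈ R, r ∈ R₀ ∨ r * y ∈ R₀ := by
  classical
  obtain ⟨R₀, hR₀⟩ := (Set.toFinite {X : Subgroup W | X ≤ R ∧ y ∉ X}).exists_maximal
    ⟨⊥, bot_le, fun h => y1 (mem_bot.1 h)⟩
  refine ⟨R₀, hR₀.prop.1, hR₀.prop.2, fun r hr => ?_⟩
  by_contra hcon
  push Not at hcon
  obtain ⟨h1, h2⟩ := hcon
  let X : Subgroup W :=
    { carrier := {x | x ∈ R₀ ∨ x * r ∈ R₀}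
      one_mem' := Or.inl (one_mem _)
      mul_mem' := by
        rintro a b (ha | ha) (hb | hb)
        · exact Or.inl (mul_mem ha hb)
        · right; rw [mul_assoc]; exact mul_mem ha hb
        · right
          have e : a * b * r = a * r * b := by rw [mul_assoc, mul_comm b r, ← mul_assoc]
          rw [e]; exact mul_mem ha hb
        · left
          have e : a * b = a * r * (b * r) := by
            calc a * b = a * b * (r * r) := by rw [sq, mul_one]
              _ = _ := by rw [mul_assoc a r, ← mul_assoc r b, mul_comm r b, mul_assoc b, mul_assoc a b]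
          rw [e]; exact mul_mem ha hb
      inv_mem' := by
        intro a ha
        have e : a⁻¹ = a := inv_eq_of_mul_eq_one_left (sq a)
        rw [e]; exact ha }
  have hXR : X ≤ R := by
    rintro x (hx | hx)
    · exact hR₀.prop.1 hx
    · have := R.mul_mem (hR₀.prop.1 hx) (R.inv_mem hr)
      rwa [mul_inv_cancel_right] at this
  have hX : X = R₀ ∨ y ∈ X := by
    by_contra h
    push Not at h
    exact h.1 (le_antisymm (hR₀.le_of_ge (y := X) ⟨hXR, h.2⟩ fun x hx => Or.inl hx) fun x hx => Or.inl hx)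
  rcases hX with h | h
  · apply h1
    rw [← h]
    right
    rw [sq]; exact one_mem _
  · rcases h with h | h
    · exact hR₀.prop.2 h
    · exact h2 (by rwa [mul_comm])

variable {H W M : Type u} [Group H] [CommGroup W] [MulDistribMulAction H W] [CommGroup M]
  [MulDistribMulAction H M]

/-- The hypotheses. -/
structure Hyp (T A : Subgroup H) (V R : Subgroup W) (π : W →* M) : Prop where
  known : IsKGroupWith IsKnownSimple' H
  finW : Finite W
  sq : ∀ w : W, w * w = 1
  surj : Function.Surjective π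
  dat : Dat T V R π
  flag : FlagK T (V.map π)
  full : ∀ v ∈ V, v ∉ R → ∀ r ∈ R, ∃ t ∈ T, (t • v) * v⁻¹ = r
  fixM : ∀ w : W, (∀ t ∈ T, (t • w) * w⁻¹ ∈ R) → w ∈ V
  ex : Exact (V.map π) A
  AV : ∀ x ∈ A, ∀ v ∈ V, x • v = v
  fix : ∀ w : W, (∀ x ∈ A, x • π w = π w) → ∀ x ∈ A, x • w = w

/-- **THEOREM Q, abstract form** -/
theorem false_of (hML : ML.Final.MLK.{u, u}) (hP : PTv.{u}) {T A : Subgroup H} {V R : Subgroup W} {π : W →* M}
    (P : Hyp T A V R π) : False := by
  classical
  have hfW := P.finW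
  have D := P.dat
  have F := P.flag
  have hfH := F.finH
  have hfM := F.finM
  -- `R` is centralised, `π` is equivariant
  have hcm : ∀ (x : H) (w : W), (x • w) * w⁻¹ ∈ R ↔ x • π w = π w := by
    intro x w
    rw [← D.ker, map_mul, map_inv, D.equi, mul_inv_eq_one]
  have hlm : ∀ v ∈ V, π v ∈ V.map π := fun v hv => mem_map_of_mem π hv
  have hlin : ∀ (h : H) (v : W), v ∈ V → v ∉ R → h • π v = π v → ∀ b ∈ V.map π, h • b = b := by
    intro h v hv hvR e
    exact F.lin _ (hlm v hv) (fun e1 => hvR ((D.ker v).1 e1)) h e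
  -- an element fixing one vector of `lam ^ g` fixes all of them
  have hlin' : ∀ (x g : H) (v : W), v ∈ V → v ∉ R → x • g • π v = g • π v → ∀ b ∈ V.map π, x • g • b = g • b := by
    intro x g v hv hvR e b hb
    have h1 : (g⁻¹ * x * g) • π v = π v := by
      rw [mul_smul, mul_smul, e, inv_smul_smul]
    have h2 := hlin _ v hv hvR h1 b hb
    rw [mul_smul, mul_smul, inv_smul_eq_iff] at h2
    exact h2
  have htriv : ∀ x : H, (∀ g : H, ∀ b ∈ V.map π, x • g • b = g • b) → x = 1 := by
    intro x hx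
    refine F.faith x fun m => ?_
    let N : Subgroup M :=
      { carrier := {m | x • m = m}
        one_mem' := smul_one x
        mul_mem' := fun {a b} ha hb => by
          change x • (a * b) = a * b
          rw [smul_mul', ha, hb]
        inv_mem' := fun {a} ha => by
          change x • a⁻¹ = a⁻¹
          rw [smul_inv', ha] }
    have hN := F.gen N fun h a ha => hx h a ha
    have : m ∈ N := by rw [hN]; exact mem_top m
    exact this
  -- a vector `a ∈ V - R`
  obtain ⟨t₀, ht₀, a, ha, hta⟩ := D.ne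
  have haR : a ∉ R := fun h => hta (D.fixR t₀ a h)
  have hya : (t₀ • a) * a⁻¹ ∈ R := D.act t₀ ht₀ a ha
  set y := (t₀ • a) * a⁻¹ with hyd
  have y1 : y ≠ 1 := fun h => hta (mul_inv_eq_one.1 h)
  obtain ⟨R₀, hR₀, hy0, hidx⟩ := exists_index_two P.sq R y1
  -- the module of `a`
  set Ma : Subgroup M := orb (⊤ : Subgroup H) (π a) with hMa
  set U : Subgroup W := Ma.comap π with hU
  have hMaH : ∀ (h : H), ∀ m ∈ Ma, h • m ∈ Ma := by
    intro h m hm
    have h1 : Ma ≤ Ma.comap (MulDistribMulAction.toMonoidHom M h) := by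
      rw [hMa, orb, closure_le]
      rintro _ ⟨g, -, rfl⟩
      change h • g • π a ∈ orb (⊤ : Subgroup H) (π a)
      rw [← mul_smul]
      exact subset_closure ⟨h * g, mem_top _, rfl⟩
    exact h1 hm
  have hUH : ∀ (h : H), ∀ w ∈ U, h • w ∈ U := by
    intro h w hw
    rw [hU, mem_comap, D.equi]
    exact hMaH h _ hw
  have hRU : R ≤ U := by
    intro r hr
    rw [hU, mem_comap, (D.ker r).2 hr]
    exact one_mem _
  have hgaU : ∀ h : H, h • a ∈ U := by
    intro h
    rw [hU, mem_comap, D.equi]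
    exact subset_closure ⟨h, mem_top _, rfl⟩
  -- `A` is exact on `Ma`
  set lam := V.map π with hlam
  have hno : Nat.card A ≤ (zm M A).relIndex Ma := by
    have Dd : ML.Final.Dat (C := H) (V := M) T (o2 (fixer lam)) A (π a) := by
      refine ⟨F.sq, F.two, F.ndvd, ?_, ?_, ?_, ?_, ?_, ?_⟩
      · intro t ht
        exact F.fix t ht _ (hlm a ha)
      · intro q hq
        obtain ⟨n, hn⟩ := (o2_isPGroup (fixer lam : Subgroup H)) ⟨q, hq⟩
        have h1 : q ^ 2 ^ n = 1 := congrArg Subtype.val hn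
        exact ⟨n, fun v => by rw [h1, one_smul]⟩
      · intro q hq
        exact o2_le _ hq _ (hlm a ha)
      · intro g hg q hq
        refine ⟨g * q * g⁻¹, ?_, fun _ => rfl⟩
        have hg' : g ∈ (fixer lam : Subgroup H) := hlin g a ha haR hg
        exact (mem_normalizer_iff.1 (le_normalizer_o2 _ hg') q).1 hq
      · intro x hx
        exact ⟨x, P.ex.le hx, fun _ => rfl⟩
      · intro x hx v
        rw [← mul_smul, P.ex.sq x hx, one_smul]
    have h1 := hML.act P.known Dd
    have h2 : fxr H (orb (⊤ : Subgroup H) (π a)) = ⊥ := by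
      rw [eq_bot_iff]
      intro x hx
      rw [mem_bot]
      refine htriv x fun g b hb => hlin' x g a ha haR ?_ b hb
      exact hx _ (subset_closure ⟨g, mem_top _, rfl⟩)
    rw [h2, relIndex_bot_left] at h1
    exact h1
  have hidxM : (zm M A).index ≠ 0 := index_ne_zero_of_finite
  have hrel : (zm M A).relIndex (Ma ⊔ zm M A) = (zm M A).relIndex Ma := relIndex_sup_right _ _
  have hmul : (zm M A).relIndex (Ma ⊔ zm M A) * (Ma ⊔ zm M A).index = (zm M A).index :=
    relIndex_mul_index le_sup_right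
  rw [hrel] at hmul
  have hone : (Ma ⊔ zm M A).index = 1 := by
    have h1 := P.ex.card
    have h2 : 0 < (Ma ⊔ zm M A).index := Nat.pos_of_ne_zero index_ne_zero_of_finite
    by_contra h3
    have h4 : 2 ≤ (Ma ⊔ zm M A).index := by omega
    have h5 : (zm M A).relIndex Ma * 2 ≤ (zm M A).index := by rw [← hmul]; exact Nat.mul_le_mul_left _ h4
    omega
  have hsup : Ma ⊔ zm M A = ⊤ := index_eq_one.1 hone
  have hcardA : Nat.card A = (zm M A).relIndex Ma := by
    rw [hone, mul_one] at hmul
    rw [hmul]; exact P.ex.card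
  -- the action on `U`
  let _ : MulDistribMulAction H U :=
    { smul := fun h w => ⟨h • (w : W), hUH h w w.2⟩
      one_smul := fun w => Subtype.ext (one_smul H (w : W))
      mul_smul := fun g h w => Subtype.ext (mul_smul g h (w : W))
      smul_mul := fun h v w => Subtype.ext (smul_mul' h (v : W) (w : W))
      smul_one := fun h => Subtype.ext (smul_one h) }
  have hsm : ∀ (h : H) (w : U), ((h • w : U) : W) = h • (w : W) := fun _ _ => rfl
  -- the group `N`
  let N : Subgroup H := o2 (fixer lam) ⊓ fixer V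
  have hAN : A ≤ N := fun x hx => ⟨P.ex.le hx, fun v hv => P.AV x hx v hv⟩
  have hfixU : ∀ w ∈ U, w ∈ R ∨ w ∉ R := fun w _ => em _
  have pre : Pre T N A (R.subgroupOf U) (R₀.subgroupOf U) (⟨a, by
      have := hgaU 1
      rwa [one_smul] at this⟩ : U) (⟨y, hRU hya⟩ : U) := by
    refine
      { known := P.known
        finH := hfH
        finW := inferInstance
        sq := fun w => Subtype.ext (P.sq w)
        fixR := fun h r hr => Subtype.ext (D.fixR h r hr)
        faith := ?_
        two := F.two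
        ndvd := F.ndvd
        R0R := fun r hr => hR₀ hr
        yR := hya
        y0 := hy0
        idx := fun r hr => hidx r hr
        aR := haR
        act := fun t ht => D.act t ht a ha
        full := ⟨t₀, ht₀, Subtype.ext (by
          change t₀ • a = a * y
          rw [hyd, mul_comm, inv_mul_cancel_right])⟩
        gen := ?_
        fixT := ?_
        N2 := ?_
        NL := ?_
        Nn := ?_
        AN := hAN
        Ane := P.ex.ne
        Asq := P.ex.sq
        quad := ?_
        ex := ?_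
        fix := ?_ }
    · intro h hh
      refine htriv h fun g b hb => hlin' h g a ha haR ?_ b hb
      have h1 := hh ⟨g • a, hgaU g⟩
      have h2 : (h • g • a) * (g • a)⁻¹ ∈ R := h1
      rw [hcm, D.equi] at h2
      exact h2
    · intro X hRX hX
      rw [eq_top_iff]
      rintro ⟨w, hw⟩ -
      have h1 : Ma ≤ (X.map U.subtype).map π := by
        rw [hMa, orb, closure_le]
        rintro _ ⟨g, -, rfl⟩
        exact ⟨g • a, ⟨⟨g • a, hgaU g⟩, hX g, rfl⟩, D.equi g a⟩
      obtain ⟨_, ⟨u, hu, rfl⟩, e⟩ := h1 hw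
      have e' : π (u : W) = π w := e
      have h2 : w * (u : W)⁻¹ ∈ R := by
        rw [← D.ker, map_mul, map_inv, e', mul_inv_cancel]
      have h3 : (⟨w * (u : W)⁻¹, hRU h2⟩ : U) ∈ X := hRX h2
      have h4 := X.mul_mem h3 hu
      have h5 : (⟨w * (u : W)⁻¹, hRU h2⟩ : U) * u = ⟨w, hw⟩ := Subtype.ext (inv_mul_cancel_right _ _)
      rwa [h5] at h4
    · rintro ⟨w, hw⟩ h1
      have h1' : ∀ t ∈ T, (t • w) * w⁻¹ ∈ R₀ := h1
      have hwV : w ∈ V := P.fixM w fun t ht => hR₀ (h1' t ht)
      by_contra hwR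
      have hwR' : w ∉ R := hwR
      obtain ⟨t, ht, e⟩ := P.full w hwV hwR' y hya
      have h2 := h1' t ht
      rw [e] at h2
      exact hy0 h2
    · exact (o2_isPGroup (fixer lam : Subgroup H)).to_le inf_le_left
    · intro n hn
      exact Subtype.ext (hn.2 a ha)
    · intro h hh n hn
      have h1 : (h • a) * a⁻¹ ∈ R := hh
      rw [hcm] at h1
      have h2 : h ∈ (fixer lam : Subgroup H) := hlin h a ha haR h1
      refine ⟨(mem_normalizer_iff.1 (le_normalizer_o2 _ h2) n).1 hn.1, fun v hv => ?_⟩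
      have h3 : h⁻¹ • v ∈ V := by
        have h4 : (h⁻¹ • v) * v⁻¹ ∈ R := by
          rw [hcm]
          exact (fixer lam : Subgroup H).inv_mem h2 _ (hlm v hv)
        have h5 := V.mul_mem (D.RV h4) hv
        rwa [inv_mul_cancel_right] at h5
      rw [mul_smul, mul_smul, hn.2 _ h3, smul_inv_smul]
    · rintro x hx z hz ⟨w, hw⟩
      refine Subtype.ext ?_
      change z • ((x • w) * w⁻¹) = (x • w) * w⁻¹
      refine P.fix _ (fun b hb => ?_) z hz
      rw [map_mul, map_inv, D.equi]
      exact P.ex.quad x hx b hb (π w)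
    · -- `|A| |C_U(A)| = |U|`
      let πU : U →* Ma := MonoidHom.mk' (fun w => ⟨π w, w.2⟩) fun v w => Subtype.ext (map_mul π _ _)
      have hsurj : Function.Surjective πU := by
        rintro ⟨m, hm⟩
        obtain ⟨w, rfl⟩ := P.surj m
        exact ⟨⟨w, hm⟩, rfl⟩
      have h1 := index_comap_of_surjective ((zm M A).subgroupOf Ma) hsurj
      have h2 : ((zm M A).subgroupOf Ma).comap πU = cv U (A : Set H) := by
        ext w
        rw [mem_comap, mem_subgroupOf, mem_cv]
        change π (w : W) ∈ zm M A ↔ _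
        rw [mem_cv]
        constructor
        · intro h3 x hx
          exact Subtype.ext (P.fix w h3 x hx)
        · intro h3 x hx
          rw [← D.equi, ← hsm, h3 x hx]
      rw [h2] at h1
      have h3 : Nat.card A = (cv U (A : Set H)).index := by rw [h1, hcardA]; rfl
      rw [h3, mul_comm]
      exact card_mul_index _
    · rintro ⟨w, hw⟩ h1 x hx
      refine Subtype.ext ?_
      change x • w = w
      refine P.fix w (fun b hb => ?_) x hx
      rw [← hcm]
      exact h1 b hb
  obtain ⟨g, hg, hg1, hgv⟩ := pre.exists_tv hML hP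
  -- on `M`
  have hgm : ∀ m ∈ Ma, ∀ n ∈ Ma, g • m = m ∨ g • n = n ∨ g • (m * n) = m * n := by
    intro m hm n hn
    obtain ⟨v, rfl⟩ := P.surj m
    obtain ⟨w, rfl⟩ := P.surj n
    have h1 := hgv ⟨v, hm⟩ ⟨w, hn⟩
    have h2 : (g • v) * v⁻¹ ∈ R ∨ (g • w) * w⁻¹ ∈ R ∨ (g • (v * w)) * (v * w)⁻¹ ∈ R := h1
    rw [hcm, hcm, hcm, map_mul] at h2
    exact h2
  have hgM : ∀ m n : M, g • m = m ∨ g • n = n ∨ g • (m * n) = m * n := by
    intro m n
    have h1 : ∀ m : M, ∃ m' ∈ Ma, ∃ c ∈ zm M A, m = m' * c := by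
      intro m
      have : m ∈ Ma ⊔ zm M A := by rw [hsup]; exact mem_top m
      obtain ⟨x, hx, c, hc, e⟩ := mem_sup.1 this
      exact ⟨x, hx, c, hc, e.symm⟩
    obtain ⟨m', hm', c, hc, rfl⟩ := h1 m
    obtain ⟨n', hn', d, hd, rfl⟩ := h1 n
    have hc' : g • c = c := mem_cv.1 hc g hg
    have hd' : g • d = d := mem_cv.1 hd g hg
    rcases hgm m' hm' n' hn' with h | h | h
    · left; rw [smul_mul', h, hc']
    · right; left; rw [smul_mul', h, hd']
    · right; right
      have e : m' * c * (n' * d) = m' * n' * (c * d) := mul_mul_mul_comm _ _ _ _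
      rw [e, smul_mul' g (m' * n'), h, smul_mul', hc', hd']
  -- two independent elements of `lam`
  obtain ⟨b₁, hb₁, b₂, hb₂, n1, n2, n3⟩ : ∃ b₁ ∈ V, ∃ b₂ ∈ V, b₁ ∉ R ∧ b₂ ∉ R ∧ b₁ * b₂ ∉ R := by
    by_contra hcon
    push Not at hcon
    have h1 : (lam : Set M) ⊆ (({1, π a} : Finset M) : Set M) := by
      rintro _ ⟨v, hv, rfl⟩
      simp only [Finset.coe_insert, Finset.coe_singleton, Set.mem_insert_iff, Set.mem_singleton_iff]
      by_cases hvR : v ∈ R
      · left; exact (D.ker v).2 hvR
      · right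
        have h2 := hcon v hv a ha hvR haR
        have h3 := (D.ker _).2 h2
        rw [map_mul] at h3
        have h4 : π a * π a = 1 := F.sq _
        exact (mul_left_inj (π a)).1 (h3.trans h4.symm)
    have h2 := Set.ncard_le_ncard h1 (Finset.finite_toSet _)
    rw [Set.ncard_coe_finset] at h2
    have h3 : (lam : Set M).ncard = Nat.card lam := rfl
    have h4 := Finset.card_le_two (a := (1 : M)) (b := π a)
    have h5 := F.four
    omega
  apply hg1
  refine htriv g fun h b hb => ?_
  rcases hgM (h • π b₁) (h • π b₂) with e | e | e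
  · exact hlin' g h b₁ hb₁ n1 e b hb
  · exact hlin' g h b₂ hb₂ n2 e b hb
  · refine hlin' g h (b₁ * b₂) (V.mul_mem hb₁ hb₂) n3 ?_ b hb
    rw [map_mul, smul_mul']
    exact e

end Cfsg.Agent.Omega.FOne.Q
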