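import Cfsg.Agent.Omega.FOne.Q.RL
import Cfsg.Agent.Omega.NO3S.FarB.FlagK

/-!
# (F1) for `q ≥ 4` over the `(R, B)`-frame: the `R`-level situation at every stage

`rl_base` : if `K_Z` centralises `V`, and `W_x` is an offender at the flag `(Z, V)`, then there is an `R`-level situation;
`hf_of_rl` : (F1) from `RLDead` and (NO) (`NoOv`), critical pair at distance `n ≥ 1`.
-/

set_option autoImplicit false
set_option linter.unusedSectionVars false

namespace Cfsg.Agent.Omega.FOne.Q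

open Subgroup Cfsg Cfsg.Agent.ZN Cfsg.Agent.MinSimple.VModule Cfsg.Agent.Omega.NO3S.PT Cfsg.Agent.Omega.NO3S.FarQ
open Cfsg.Agent.Omega.NO3S Cfsg.Agent.Omega.NO3S.PtGeom
open Cfsg.Agent.Omega.NO3S.FarQ.FOne
open Cfsg.Agent.Omega.NO3S.FarB.FOne (kx_le kx_eq Off.le_cent ph_V_mem o2_le_B img_le tt norm_V off_of_crit
  relIndex_le)
open Cfsg.Agent.Omega.NOThree.Pts (Crit)
open Cfsg.Agent.ClassTwoFusion.Quad (cv mem_cv cv_anti)
open scoped Pointwise

universe u

variable {G : Type u} [Group G] [Finite G] {S : Sylow 2 G} {B₀ P V Z : Subgroup G} (h : PB S B₀ P V Z)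
variable {H M : Type u} [Group H] [CommGroup M] [MulDistribMulAction H M] {ρ : G → H} {π : G → M}
include h

/-- **The contradiction at the base flag.** -/
theorem false_base (r : Real V Z ρ π) (hRL : RLDead.{u}) (hKH : IsKGroupWith IsKnownSimple' H)
    (hF : FlagK (tt h r) ((V.subgroupOf (ws V Z)).map (ph r)))
    (hf : kx V Z ≤ centralizer (V : Set G))
    {B : Subgroup G} (hB : Off V V Z B)
    (hne : ¬ B ≤ centralizer (ws V Z : Set G))
    (hle : (centralizer (B : Set G)).relIndex (ws V Z) ≤ (centralizer (ws V Z : Set G)).relIndex B)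
    (hNO : NoOv (H := H) ((V.subgroupOf (ws V Z)).map (ph r))) : False := by
  have hBC := Off.le_cent h hB
  set A := img r hBC with hA
  have hkc := kx_le h hf
  have hke := kx_eq h hf
  have hcard : Nat.card A = (centralizer (ws V Z : Set G)).relIndex B := by rw [hA, card_img r hBC, hke]
  have hcomm : ∀ a ∈ A, ∀ b ∈ A, a * b = b * a := by
    intro x hx y hy
    obtain ⟨a, ha, rfl⟩ := (mem_img r).1 hx
    obtain ⟨b, hb, rfl⟩ := (mem_img r).1 hy
    rw [← r.mulρ _ (hBC ha) _ (hBC hb), ← r.mulρ _ (hBC hb) _ (hBC ha), hB.comm a ha b hb]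
  have hsq : ∀ a ∈ A, a * a = 1 := by
    intro x hx
    obtain ⟨a, ha, rfl⟩ := (mem_img r).1 hx
    rw [← r.mulρ _ (hBC ha) _ (hBC ha), hB.sq a ha, rho_one r]
  have hact : ∀ a ∈ B, ∀ w ∈ ws V Z, (ρ a • π w) * (π w)⁻¹ = π (a * w * a⁻¹ * w⁻¹) := by
    intro a ha w hw
    rw [← r.act a (hBC ha) w hw, ← pi_inv r hw, ← r.mulπ _ (cent_conj r (hBC ha) hw) _ (inv_mem hw)]
  have hcW : ∀ a ∈ B, ∀ w ∈ ws V Z, a * w * a⁻¹ * w⁻¹ ∈ ws V Z := fun a ha w hw =>
    mul_mem (cent_conj r (hBC ha) hw) (inv_mem hw)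
  have hquad : ∀ a ∈ A, ∀ b ∈ A, ∀ m : M, b • ((a • m) * m⁻¹) = (a • m) * m⁻¹ := by
    intro x hx y hy m
    obtain ⟨a, ha, rfl⟩ := (mem_img r).1 hx
    obtain ⟨b, hb, rfl⟩ := (mem_img r).1 hy
    obtain ⟨w, hw, rfl⟩ := r.surjπ m
    rw [hact a ha w hw, ← r.act b (hBC hb) _ (hcW a ha w hw), hB.comm b hb _ (hB.nor a ha w hw),
      mul_inv_cancel_right]
  have hAle : A ≤ o2 (fixer ((V.subgroupOf (ws V Z)).map (ph r))) := img_le h r hB
  have h1 := hNO A hAle hcomm hsq hquad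
  have hsurj : Function.Surjective (ph r) := fun m => by
    obtain ⟨w, hw, rfl⟩ := r.surjπ m
    exact ⟨⟨w, hw⟩, rfl⟩
  have h2 := index_comap_of_surjective (zm M A) hsurj
  have h3 : (centralizer (B : Set G)).subgroupOf (ws V Z) ≤ (zm M A).comap (ph r) := by
    intro w hw
    rw [mem_comap, mem_cv]
    intro x hx
    obtain ⟨a, ha, rfl⟩ := (mem_img r).1 hx
    have h4 := hact a ha w w.2
    have h5 : a * w * a⁻¹ * (w : G)⁻¹ = 1 := by
      have h6 := mem_centralizer_iff.1 (mem_subgroupOf.1 hw) a ha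
      rw [h6, mul_inv_cancel_right, mul_inv_cancel]
    rw [h5] at h4
    have h7 : π 1 = 1 := (ph r).map_one
    rw [h7, mul_inv_eq_one] at h4
    exact h4
  have h4 : ((zm M A).comap (ph r)).index ≤ ((centralizer (B : Set G)).subgroupOf (ws V Z)).index :=
    Nat.le_of_dvd (Nat.pos_of_ne_zero index_ne_zero_of_finite) (index_dvd_of_le h3)
  have h5 : ((centralizer (B : Set G)).subgroupOf (ws V Z)).index ≤ Nat.card A := by
    rw [hcard]; exact hle
  have h6 : (zm M A).comap (ph r) ≤ (centralizer (B : Set G)).subgroupOf (ws V Z) :=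
    FarB.FOne.le_of_index_le h3 (by omega)
  have hex : Exact ((V.subgroupOf (ws V Z)).map (ph r)) A := by
    refine ⟨fun e => hne fun b hb => ?_, hAle, hcomm, hsq, hquad, by omega⟩
    have h7 : ρ b ∈ A := mem_img_of r hb
    rw [e, mem_bot] at h7
    exact hkc ((r.kerρ b (hBC hb)).1 h7)
  -- the action on `W`
  choose σ hσ1 hσ2 using r.surjρ
  let _ : CommGroup (ws V Z) :=
    { (inferInstance : Group (ws V Z)) with
      mul_comm := fun a b => Subtype.ext (mem_centralizer_iff.1 (h.Wcomm b.2) a a.2) }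
  let _ : MulDistribMulAction H (ws V Z) :=
    { smul := fun x w => ⟨σ x * w * (σ x)⁻¹, cent_conj r (hσ1 x) w.2⟩
      one_smul := fun w => Subtype.ext (by
        show σ 1 * (w : G) * (σ 1)⁻¹ = w
        rw [eq_of_rho r (hσ1 1) (one_mem _) hkc ((hσ2 1).trans (rho_one r).symm) w.2]
        group)
      mul_smul := fun x y w => Subtype.ext (by
        show σ (x * y) * (w : G) * (σ (x * y))⁻¹ = σ x * (σ y * w * (σ y)⁻¹) * (σ x)⁻¹
        rw [eq_of_rho r (hσ1 (x * y)) (mul_mem (hσ1 x) (hσ1 y)) hkc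
          (by rw [hσ2, r.mulρ _ (hσ1 x) _ (hσ1 y), hσ2, hσ2]) w.2]
        group)
      smul_mul := fun x w w' => Subtype.ext (by
        show σ x * ((w : G) * w') * (σ x)⁻¹ = σ x * w * (σ x)⁻¹ * (σ x * w' * (σ x)⁻¹)
        group)
      smul_one := fun x => Subtype.ext (by
        show σ x * (1 : G) * (σ x)⁻¹ = 1
        group) }
  have hsm : ∀ a ∈ centralizer (Z : Set G), ∀ w : ws V Z, ((ρ a • w : ws V Z) : G) = a * w * a⁻¹ := by
    intro a ha w
    show σ (ρ a) * (w : G) * (σ (ρ a))⁻¹ = a * w * a⁻¹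
    exact eq_of_rho r (hσ1 _) ha hkc (hσ2 _) w.2
  have D : FOneAbs.Dat (tt h r) (V.subgroupOf (ws V Z)) (Z.subgroupOf (ws V Z)) (ph r) := by
    refine ⟨FarB.FOne.finite_H r, fun w => r.kerπ w w.2, ?_, ?_, ?_, ?_, ?_, ?_, ?_⟩
    · intro x w
      show π (σ x * w * (σ x)⁻¹) = x • π w
      rw [r.act _ (hσ1 x) w w.2, hσ2]
    · intro x w hw
      refine Subtype.ext ?_
      show σ x * (w : G) * (σ x)⁻¹ = w
      rw [← mem_centralizer_iff.1 (hσ1 x) w hw, mul_inv_cancel_right]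
    · intro t ht v hv
      obtain ⟨s, hs, rfl⟩ := (mem_img r).1 ht
      rw [mem_subgroupOf]
      show ((ρ s • v : ws V Z) : G) * (v : G)⁻¹ ∈ Z
      rw [hsm s (h.B_le hs)]
      exact h.act s hs v hv
    · intro w hw
      exact h.ZV hw
    · intro t ht v hv hvZ e u hu
      obtain ⟨s, hs, rfl⟩ := (mem_img r).1 ht
      have e1 := congrArg Subtype.val e
      rw [hsm s (h.B_le hs)] at e1
      refine Subtype.ext ?_
      rw [hsm s (h.B_le hs)]
      have e2 := h.free s hs v hv (fun e => hvZ e) (mul_inv_eq_iff_eq_mul.1 e1) u hu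
      rw [e2, mul_inv_cancel_right]
    · obtain ⟨Y, hY, hYV, hYne⟩ := h.exists_second h.isCj_self h.ZV
      obtain ⟨v, hv, hv1⟩ := h.pt_ne_bot hY
      have hvZ : v ∉ Z := fun e => hYne (h.pts_eq hY h.isCj_self hv e hv1)
      obtain ⟨z, hz, hz1⟩ := h.pt_ne_bot h.isCj_self
      obtain ⟨s, hs, hsz⟩ := h.full v (hYV hv) hvZ z hz
      refine ⟨ρ s, mem_img_of r hs, ⟨v, h.V_le_ws h.ZV (hYV hv)⟩, hYV hv, fun e => hz1 ?_⟩
      have e1 := congrArg Subtype.val e
      rw [hsm s (h.B_le hs)] at e1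
      rw [← hsz, mul_inv_eq_one]
      exact e1
    · intro x hx v hv
      have h7 := norm_V h r hf (hσ1 x) (by rw [hσ2]; exact hx)
      rw [mem_subgroupOf]
      show σ x * (v : G) * (σ x)⁻¹ ∈ V
      exact (mem_normalizer_iff.1 h7 v).1 hv
  have hAT : A ≤ tt h r := by
    intro x hx
    obtain ⟨b, hb, rfl⟩ := (mem_img r).1 hx
    exact mem_img_of r (o2_le_B h (hB.le hb))
  refine hRL H (ws V Z) M (tt h r) A (V.subgroupOf (ws V Z)) (Z.subgroupOf (ws V Z)) (ph r)
    { known := hKH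
      finW := inferInstance
      sq := fun w => Subtype.ext (h.ws_sq w w.2)
      surj := hsurj
      dat := D
      flag := hF
      full := ?_
      fixT := ?_
      ex := hex
      AT := hAT
      AV := ?_
      fix := ?_ }
  · intro v hv hvR z hz
    obtain ⟨s, hs, hsz⟩ := h.full v hv (fun e => hvR e) z hz
    refine ⟨ρ s, mem_img_of r hs, Subtype.ext ?_⟩
    show ((ρ s • v : ws V Z) : G) * (v : G)⁻¹ = z
    rw [hsm s (h.B_le hs)]
    exact hsz
  · intro w hw
    refine h.omega w (h.ws_le_B w.2) (h.ws_sq w w.2) fun s hs => ?_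
    have e1 := congrArg Subtype.val (hw (ρ s) (mem_img_of r hs))
    rw [hsm s (h.B_le hs)] at e1
    exact mul_inv_eq_iff_eq_mul.1 e1
  · intro x hx v hv
    obtain ⟨b, hb, rfl⟩ := (mem_img r).1 hx
    refine Subtype.ext ?_
    rw [hsm b (hBC hb)]
    have h7 : b ∈ centralizer (V : Set G) := ZN.o2_le _ (hB.le hb)
    rw [← mem_centralizer_iff.1 h7 v hv, mul_inv_cancel_right]
  · intro w hw x hx
    obtain ⟨b, hb, rfl⟩ := (mem_img r).1 hx
    have h7 : w ∈ (zm M A).comap (ph r) := by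
      rw [mem_comap, mem_cv]
      exact hw
    have h8 := mem_centralizer_iff.1 (mem_subgroupOf.1 (h6 h7)) b hb
    refine Subtype.ext ?_
    rw [hsm b (hBC hb), h8, mul_inv_cancel_right]

/-- **(F1) for `q ≥ 4`**, from the `R`-level theorem, at every stage. -/
theorem hf_of_rl (hRL : RLDead.{u}) (hq : 4 ≤ Nat.card Z) {n : ℕ} (hn : 1 ≤ n) {x y : Pt Z}
    (hc : Crit (PtGeom.inc (Z := Z) (V := V)) (fun x : Pt Z => ws V x.sg) n x y)
    (hNO : KNO.{u} (fun H _ => Img (centralizer (Z : Set G)) H))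
    (hKn : ∀ (H : Type u) [Group H], Img (centralizer (Z : Set G)) H → IsKGroupWith IsKnownSimple' H) :
    ¬ kx V Z ≤ centralizer (V : Set G) := by
  intro hf
  obtain ⟨H, M, iH, iM, iA, ρ, π, r⟩ := FarB.exists_real h
  have hI : Img (centralizer (Z : Set G)) H := FarQ.img_of_real r
  have hF : FlagK (tt h r) ((V.subgroupOf (ws V Z)).map (ph r)) :=
    FarB.flagK_of h r hq (fun x => mem_img r) fun m => ph_V_mem h r
  have hNo : NoOv (H := H) ((V.subgroupOf (ws V Z)).map (ph r)) := hNO H M _ _ hI hF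
  obtain ⟨g, hg, hB⟩ := off_of_crit h hn hc
  obtain ⟨g', hg', hB'⟩ := off_of_crit h hn hc.symm
  have hb := hB.conj g⁻¹
  have hb' := hB'.conj g'⁻¹
  rw [cj_cj, cj_cj, inv_mul_cancel, cj_one, cj_one] at hb hb'
  have h1 := relIndex_le h r hf hb' hNo
  -- `|W_y : C(W_x)| ≤ |W_x : C(W_y)|`
  have e1 : cj g (cj g⁻¹ (ws V x.sg)) = ws V x.sg := by rw [cj_cj, mul_inv_cancel, cj_one]
  have e2 : cj g' (cj g'⁻¹ (ws V y.sg)) = ws V y.sg := by rw [cj_cj, mul_inv_cancel, cj_one]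
  have e3 : ws V y.sg = cj g (ws V Z) := by rw [hg, ws_cj]
  have e4 : ws V x.sg = cj g' (ws V Z) := by rw [hg', ws_cj]
  rw [← FarB.FOne.cent_relIndex_conj g' (ws V Z), ← FarB.FOne.cent_relIndex_conj g' (cj g'⁻¹ (ws V y.sg)), e2, ← e4] at h1
  refine false_base h r hRL (hKn H hI) hF hf hb ?_ ?_ hNo
  · intro hcon
    apply hc.ne
    intro a ha b hbm
    have h2 : ws V x.sg ≤ centralizer (ws V y.sg : Set G) := by
      rw [← e1, e3, ← cj_centralizer, cj_le_cj]
      exact hcon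
    exact (mem_centralizer_iff.1 (h2 ha) b hbm).symm
  · rw [← FarB.FOne.cent_relIndex_conj g (ws V Z), ← FarB.FOne.cent_relIndex_conj g (cj g⁻¹ (ws V x.sg)), e1, ← e3]
    exact h1

end Cfsg.Agent.Omega.FOne.Q
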