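import Cfsg.Agent.Omega.FOne.Q.PB
import Cfsg.Agent.Omega.NO3S.FarB.Node

/-!
# NO-3S, natural lines, `q ≥ 4`: the socket `FOneB` (all stages, `n ≥ 1`) from (ML) and the `R`-level theorem

* `front` : (F1) over the frame (`OneB`, `OneSzB`, `MidB`, `FarB`);
* `fOneB_of` : `NO3S.FOneB K`.
-/

set_option autoImplicit false
set_option linter.unusedSectionVars false

namespace Cfsg.Agent.Omega.FOne.Q

open Subgroup Cfsg Cfsg.Agent.ZN Cfsg.Agent.MinSimple.VModule
open Cfsg.Agent.Omega.NO3S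
open Cfsg.Agent.Omega.NO3S.FarQ (KNO Img kno_of_mlk kgroup_of_img)
open Cfsg.Agent.Omega.NO3S.PT
open Cfsg.Agent.Omega.ML.Final (MLK)
open Cfsg.Agent.Omega.MinPar Cfsg.Agent.Omega.Frame Cfsg.Agent.Omega.FrameNOFF Cfsg.Agent.Omega.NatPair
open scoped Pointwise

universe u

/-- **(F1)** over the frame, at every stage. -/
theorem front {G : Type u} [Group G] [Finite G] {S : Sylow 2 G} {P B R : Subgroup G} (hML : MLK.{u, u})
    (hRL : RLDead.{u}) (h : NO3S.Hyp S P) (hp : PB S B P (zl (S : Subgroup G) P) R) (hq : 4 ≤ Nat.card R) {n : ℕ}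
    (hn : 1 ≤ n) {y : G} (hc : NoFF.Lines.Crit R (normalizer (R : Set G)) {P} n 1 y) :
    ¬ kx (zl (S : Subgroup G) P) R ≤ centralizer (zl (S : Subgroup G) P : Set G) := by
  have hKn : ∀ (H : Type u) [Group H], Img (centralizer (R : Set G)) H → IsKGroupWith IsKnownSimple' H :=
    fun H _ hI => kgroup_of_img h.ctx.kproper (FarB.centralizer_ne_top h hp.Zne) H hI
  exact hf_of_rl hp hRL hq hn (PB.Geom.crit hp hp.V_eq hc) ((kno_of_mlk hML).mono fun H _ hI => hKn H hI) hKn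

/-- **The socket `FOneB`**, all stages. -/
theorem fOneB_of {K : Cls.{u}} (hML : MLK.{u, u}) (hRL : RLDead.{u}) : NO3S.FOneB K := by
  intro G _ _ _ S P h F _ _ _ hF _ B R hB n y hn hc
  exact Or.inl (front hML hRL h.toHyp hB.pb (hB.card.symm ▸ hF) hn hc)

end Cfsg.Agent.Omega.FOne.Q
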