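import Cfsg.Agent.Omega.FOne.NOv.Plug

/-!
# (F1) for `q ≥ 4` from the case `q = 2`: the module `W / R₀`

`exists_quo` : `W / R₀` as an `𝔽₂`-space with `H`-action.
-/

set_option autoImplicit false
set_option linter.unusedSectionVars false

namespace Cfsg.Agent.Omega.FOne.Q

open Subgroup Cfsg

universe u

section quo

variable {H W : Type u} [Group H] [CommGroup W] [MulDistribMulAction H W]

/-- the class of `w` modulo `R₀` -/
def pr (R₀ : Subgroup W) (w : W) : Additive (W ⧸ R₀) := Additive.ofMul (QuotientGroup.mk w)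

theorem pr_surj (R₀ : Subgroup W) : Function.Surjective (pr R₀) := by
  intro x
  obtain ⟨w, hw⟩ := QuotientGroup.mk_surjective (Additive.toMul x)
  exact ⟨w, by rw [pr, hw]; rfl⟩

theorem pr_mul (R₀ : Subgroup W) (a b : W) : pr R₀ (a * b) = pr R₀ a + pr R₀ b := rfl

theorem pr_eq_zero {R₀ : Subgroup W} {a : W} : pr R₀ a = 0 ↔ a ∈ R₀ := by
  have : pr R₀ a = 0 ↔ (QuotientGroup.mk a : W ⧸ R₀) = 1 := Iff.rfl
  rw [this, QuotientGroup.eq_one_iff]

/-- the action of `h` on `W / R₀` -/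
def qh (R₀ : Subgroup W) (hR : ∀ h : H, ∀ r ∈ R₀, h • r = r) (h : H) : Additive (W ⧸ R₀) →+ Additive (W ⧸ R₀) :=
  MonoidHom.toAdditive (QuotientGroup.map R₀ R₀ (MulDistribMulAction.toMonoidHom W h)
    fun r hr => by rw [mem_comap, MulDistribMulAction.toMonoidHom_apply, hR h r hr]; exact hr)

theorem qh_pr (R₀ : Subgroup W) (hR : ∀ h : H, ∀ r ∈ R₀, h • r = r) (h : H) (w : W) :
    qh R₀ hR h (pr R₀ w) = pr R₀ (h • w) := rfl

theorem exists_quo (sq : ∀ w : W, w * w = 1) (R₀ : Subgroup W) (hR : ∀ h : H, ∀ r ∈ R₀, h • r = r) :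
    ∃ (W' : Type u) (_ : AddCommGroup W') (_ : Module (ZMod 2) W') (p : W → W') (ρ : H →* (W' ≃ₗ[ZMod 2] W')),
      Function.Surjective p ∧ (∀ a b, p (a * b) = p a + p b) ∧ (∀ a, p a = 0 ↔ a ∈ R₀) ∧
        ∀ h a, ρ h (p a) = p (h • a) := by
  have h2 : ∀ x : Additive (W ⧸ R₀), 2 • x = 0 := by
    intro x
    obtain ⟨w, rfl⟩ := pr_surj R₀ x
    rw [two_nsmul, ← pr_mul, sq w]
    exact pr_eq_zero.2 (one_mem _)
  let _ : Module (ZMod 2) (Additive (W ⧸ R₀)) := AddCommGroup.zmodModule h2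
  have hone : ∀ x, qh R₀ hR (1 : H) x = x := by
    intro x
    obtain ⟨w, rfl⟩ := pr_surj R₀ x
    rw [qh_pr, one_smul]
  have hmul : ∀ (g h : H) (x), qh R₀ hR (g * h) x = qh R₀ hR g (qh R₀ hR h x) := by
    intro g h x
    obtain ⟨w, rfl⟩ := pr_surj R₀ x
    rw [qh_pr, qh_pr, qh_pr, mul_smul]
  let L : H → (Additive (W ⧸ R₀) ≃ₗ[ZMod 2] Additive (W ⧸ R₀)) := fun h =>
    { toFun := qh R₀ hR h
      map_add' := fun a b => map_add _ a b
      map_smul' := by
        intro c x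
        rw [RingHom.id_apply]
        rcases Tvw.z2 c with rfl | rfl
        · rw [zero_smul, zero_smul, map_zero]
        · rw [one_smul, one_smul]
      invFun := qh R₀ hR h⁻¹
      left_inv := fun x => by rw [← hmul, inv_mul_cancel, hone]
      right_inv := fun x => by rw [← hmul, mul_inv_cancel, hone] }
  let ρ : H →* (Additive (W ⧸ R₀) ≃ₗ[ZMod 2] Additive (W ⧸ R₀)) :=
    { toFun := L
      map_one' := by ext x; exact hone x
      map_mul' := fun g h => by ext x; exact hmul g h x }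
  exact ⟨Additive (W ⧸ R₀), inferInstance, inferInstance, pr R₀, ρ, pr_surj R₀, pr_mul R₀,
    fun a => pr_eq_zero, fun h a => rfl⟩

end quo

end Cfsg.Agent.Omega.FOne.Q
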