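import Cfsg.Agent.Omega.FOne.Q.Abs

/-!
# (F1) for `q ≥ 4`, the `R`-level situation at every stage (bb OMEGA #22287, helper69)

* `RL T A V R π` : `Q.Hyp` with `fixM` (which is LEMMA FIX, stage `-1`) replaced by `fixT : C_W(T) ≤ R`;
* `RLDead` : there is no such situation;
* `RL.false_of` : with `fixM`, from `PTv` (stage `-1`).
-/

set_option autoImplicit false
set_option linter.unusedSectionVars false

namespace Cfsg.Agent.Omega.FOne.Q

open Subgroup Cfsg
open Cfsg.Agent.Omega.FOne.NOv (PTv)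
open Cfsg.Agent.Omega.NO3S.FarQ (FlagK Exact zm fixer)
open Cfsg.Agent.Omega.NO3S.FarQ.FOneAbs (Dat)

universe u

/-- **The `R`-level situation**: `H` acts on `W`, centralises `R`, `π : W → M` is onto with kernel `R`; `lam = V / R` of
order `≥ 4` is fixed by the Sylow group `T`, `[v, T] = R` for `v ∈ V - R`, `C_W(T) ≤ R`; `A ≠ 1` is an exact quadratic
subgroup of `O₂(C_H(lam))` which centralises `V`, and `C_M(A) = C_W(A) / R`. -/
structure RL {H W M : Type u} [Group H] [CommGroup W] [MulDistribMulAction H W] [CommGroup M]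
    [MulDistribMulAction H M] (T A : Subgroup H) (V R : Subgroup W) (π : W →* M) : Prop where
  known : IsKGroupWith IsKnownSimple' H
  finW : Finite W
  sq : ∀ w : W, w * w = 1
  surj : Function.Surjective π
  dat : Dat T V R π
  flag : FlagK T (V.map π)
  full : ∀ v ∈ V, v ∉ R → ∀ r ∈ R, ∃ t ∈ T, (t • v) * v⁻¹ = r
  fixT : ∀ w : W, (∀ t ∈ T, t • w = w) → w ∈ R
  ex : Exact (V.map π) A
  AT : A ≤ T
  AV : ∀ x ∈ A, ∀ v ∈ V, x • v = v
  fix : ∀ w : W, (∀ x ∈ A, x • π w = π w) → ∀ x ∈ A, x • w = w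

/-- The `R`-level situation does not occur. -/
def RLDead : Prop :=
  ∀ (H W M : Type u) [Group H] [CommGroup W] [MulDistribMulAction H W] [CommGroup M] [MulDistribMulAction H M]
    (T A : Subgroup H) (V R : Subgroup W) (π : W →* M), RL T A V R π → False

variable {H W M : Type u} [Group H] [CommGroup W] [MulDistribMulAction H W] [CommGroup M]
  [MulDistribMulAction H M]

/-- with `C_M(T) ≤ lam` -/
theorem RL.hyp {T A : Subgroup H} {V R : Subgroup W} {π : W →* M} (P : RL T A V R π)
    (hM : ∀ w : W, (∀ t ∈ T, (t • w) * w⁻¹ ∈ R) → w ∈ V) : Hyp T A V R π where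
  known := P.known
  finW := P.finW
  sq := P.sq
  surj := P.surj
  dat := P.dat
  flag := P.flag
  full := P.full
  fixM := hM
  ex := P.ex
  AV := P.AV
  fix := P.fix

/-- **THEOREM Q** (stage `-1`) -/
theorem RL.false_of (hML : ML.Final.MLK.{u, u}) (hP : PTv.{u}) {T A : Subgroup H} {V R : Subgroup W} {π : W →* M}
    (P : RL T A V R π) (hM : ∀ w : W, (∀ t ∈ T, (t • w) * w⁻¹ ∈ R) → w ∈ V) : False :=
  Q.false_of hML hP (P.hyp hM)

end Cfsg.Agent.Omega.FOne.Q
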