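import Cfsg.Agent.Omega.FOne.Q.Quo

/-!
# (F1) for `q ≥ 4` from the case `q = 2`: `PTv` for `W / R₀`

* `Pre T N A R R₀ a y` : the multiplicative data: `H` acts on `W`, centralises `R`, is faithful on `W / R`, `R₀ < R` of
  index 2, `y ∈ R - R₀`, `a ∉ R` with `[a, T] = R`, `W = ⟨a^H⟩ R`, `C_{W / R₀}(T) ≤ R / R₀`, `A ≤ N` exact;
* `Pre.exists_tv` : some `g ∈ A#` centralises (modulo `R`) one of `v`, `w`, `v w` for all `v`, `w`.
-/

set_option autoImplicit false
set_option linter.unusedSectionVars false

namespace Cfsg.Agent.Omega.FOne.Q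

open Subgroup Cfsg
open Cfsg.Agent.Omega.FOne.Tvw (Base IsTv z2 addself)
open Cfsg.Agent.Omega.FOne.NOv
open Cfsg.Agent.ClassTwoFusion.Quad (cv mem_cv)

universe u

/-- the multiplicative data -/
structure Pre {H W : Type u} [Group H] [CommGroup W] [MulDistribMulAction H W] (T N A : Subgroup H)
    (R R₀ : Subgroup W) (a y : W) : Prop where
  known : IsKGroupWith IsKnownSimple' H
  finH : Finite H
  finW : Finite W
  sq : ∀ w : W, w * w = 1
  fixR : ∀ h : H, ∀ r ∈ R, h • r = r
  faith : ∀ h : H, (∀ w : W, (h • w) * w⁻¹ ∈ R) → h = 1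
  two : IsPGroup 2 T
  ndvd : ¬ 2 ∣ T.index
  R0R : R₀ ≤ R
  yR : y ∈ R
  y0 : y ∉ R₀
  idx : ∀ r ∈ R, r ∈ R₀ ∨ r * y ∈ R₀
  aR : a ∉ R
  act : ∀ t ∈ T, (t • a) * a⁻¹ ∈ R
  full : ∃ t ∈ T, t • a = a * y
  gen : ∀ U : Subgroup W, R ≤ U → (∀ h : H, h • a ∈ U) → U = ⊤
  fixT : ∀ w, (∀ t ∈ T, (t • w) * w⁻¹ ∈ R₀) → w ∈ R
  N2 : IsPGroup 2 N
  NL : ∀ n ∈ N, n • a = a
  Nn : ∀ h : H, (h • a) * a⁻¹ ∈ R → ∀ n ∈ N, h * n * h⁻¹ ∈ N
  AN : A ≤ N
  Ane : A ≠ ⊥
  Asq : ∀ x ∈ A, x * x = 1
  quad : ∀ x ∈ A, ∀ z ∈ A, ∀ w : W, z • ((x • w) * w⁻¹) = (x • w) * w⁻¹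
  ex : Nat.card A * Nat.card (cv W (A : Set H)) = Nat.card W
  fix : ∀ w : W, (∀ x ∈ A, (x • w) * w⁻¹ ∈ R) → ∀ x ∈ A, x • w = w

section card

variable {W W' : Type u} [CommGroup W] [AddCommGroup W'] [Finite W]

/-- `|U| = |R₀| |U / R₀|` -/
theorem card_of (p : W → W') (hps : Function.Surjective p) (hpm : ∀ a b, p (a * b) = p a + p b) {R₀ : Subgroup W}
    (hpk : ∀ a, p a = 0 ↔ a ∈ R₀) {U : Subgroup W} {S : Set W'} (hRU : R₀ ≤ U) (hS : ∀ w, w ∈ U ↔ p w ∈ S) :
    Nat.card U = Nat.card R₀ * Nat.card S := by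
  let f : U →* Multiplicative W' := MonoidHom.mk' (fun u => Multiplicative.ofAdd (p u)) fun a b => by
    show Multiplicative.ofAdd (p (a * b)) = _
    rw [hpm]; rfl
  have h1 := Subgroup.card_mul_index f.ker
  rw [Subgroup.index_ker] at h1
  have h2 : Nat.card f.ker = Nat.card R₀ := by
    refine Nat.card_congr ⟨fun x => ⟨x, ?_⟩, fun x => ⟨⟨x, hRU x.2⟩, ?_⟩, fun x => rfl, fun x => rfl⟩
    · exact (hpk _).1 x.2
    · exact (hpk _).2 x.2
  have h3 : Nat.card f.range = Nat.card S := by
    refine Nat.card_congr ⟨fun x => ⟨Multiplicative.toAdd x.1, ?_⟩, fun x => ⟨Multiplicative.ofAdd x.1, ?_⟩,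
      fun x => rfl, fun x => rfl⟩
    · obtain ⟨u, hu⟩ := x.2
      rw [← hu]
      exact (hS _).1 u.2
    · obtain ⟨w, hw⟩ := hps x.1
      exact ⟨⟨w, (hS w).2 (by rw [hw]; exact x.2)⟩, by
        show Multiplicative.ofAdd (p w) = _
        rw [hw]⟩
  rw [← h1, h2, h3]

end card

variable {H W : Type u} [Group H] [CommGroup W] [MulDistribMulAction H W] {T N A : Subgroup H}
  {R R₀ : Subgroup W} {a y : W}

/-- a normal 2-subgroup is contained in `T` -/
theorem le_of_normal [Finite H] (two : IsPGroup 2 T) (ndvd : ¬ 2 ∣ T.index) {N : Subgroup H} (hN : N.Normal)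
    (hp : IsPGroup 2 N) : N ≤ T := by
  have : Fact (Nat.Prime 2) := ⟨Nat.prime_two⟩
  have h1 : IsPGroup 2 (T ⊔ N : Subgroup H) := two.to_sup_of_normal_right hp
  have h2 : T ⊔ N = T := (two.toSylow ndvd).is_maximal' h1 le_sup_left
  calc N ≤ T ⊔ N := le_sup_right
    _ = T := h2

theorem Pre.exists_tv (hML : ML.Final.MLK.{u, u}) (hP : PTv.{u}) (P : Pre T N A R R₀ a y) :
    ∃ g ∈ A, g ≠ 1 ∧ ∀ v w : W, (g • v) * v⁻¹ ∈ R ∨ (g • w) * w⁻¹ ∈ R ∨ (g • (v * w)) * (v * w)⁻¹ ∈ R := by
  classical
  have hfH := P.finH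
  have hfW := P.finW
  obtain ⟨W', i1, i2, p, ρ, hps, hpm, hpk, hρ⟩ := exists_quo P.sq R₀ fun h r hr => P.fixR h r (P.R0R hr)
  have hfW' : Finite W' := Finite.of_surjective p hps
  have hfL : Finite (W' ≃ₗ[ZMod 2] W') := DFunLike.finite _
  have hp1 : p 1 = 0 := (hpk 1).2 (one_mem _)
  have hpi : ∀ w, p w⁻¹ = p w := by
    intro w
    have h1 : w⁻¹ = w := inv_eq_of_mul_eq_one_left (P.sq w)
    rw [h1]
  have y0 : p y ≠ 0 := fun h => P.y0 ((hpk y).1 h)
  have pR : ∀ w, w ∈ R ↔ p w = 0 ∨ p w = p y := by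
    intro w
    constructor
    · intro hw
      rcases P.idx w hw with h | h
      · exact Or.inl ((hpk w).2 h)
      · right
        have h1 := (hpk _).2 h
        rw [hpm] at h1
        exact Tvw.eq_of_add_eq_zero' h1
    · rintro (h | h)
      · exact P.R0R ((hpk w).1 h)
      · have h1 : p (w * y) = 0 := by rw [hpm, h, addself]
        have h2 := R.mul_mem (P.R0R ((hpk _).1 h1)) (R.inv_mem P.yR)
        rwa [mul_inv_cancel_right] at h2
  have pd : ∀ w w', w' * w⁻¹ ∈ R ↔ p w' = p w ∨ p w' = p w + p y := by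
    intro w w'
    rw [pR, hpm, hpi]
    constructor
    · rintro (h | h)
      · exact Or.inl (Tvw.eq_of_add_eq_zero' h)
      · right
        rw [← h]
        have := addself (p w)
        calc p w' = (p w + p w) + p w' := by rw [this, zero_add]
          _ = _ := by abel
    · rintro (h | h)
      · left; rw [h, addself]
      · right; rw [h]
        have := addself (p w)
        calc p w + p y + p w = (p w + p w) + p y := by abel
          _ = _ := by rw [this, zero_add]
  have pd0 : ∀ w w', w' * w⁻¹ ∈ R₀ ↔ p w' = p w := by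
    intro w w'
    rw [← hpk, hpm, hpi]
    constructor
    · intro h; exact Tvw.eq_of_add_eq_zero' h
    · intro h; rw [h, addself]
  have hinj : Function.Injective ρ := by
    rw [injective_iff_map_eq_one]
    intro h hh
    refine P.faith h fun w => P.R0R ?_
    rw [pd0, ← hρ, hh]
    rfl
  have hy : ∀ h : H, ρ h (p y) = p y := fun h => by rw [hρ, P.fixR h y P.yR]
  -- `H` fixes nothing but `R` in `a R`
  have a0 : p a ≠ 0 := fun h => P.aR (P.R0R ((hpk a).1 h))
  have ay : p a ≠ p y := fun h => P.aR ((pR a).2 (Or.inr h))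
  have hpt : ∀ t ∈ T, ρ t (p a) = p a ∨ ρ t (p a) = p a + p y := by
    intro t ht
    rw [hρ]
    exact (pd _ _).1 (P.act t ht)
  have hgen : ∀ U : Subgroup W, R ≤ U → (∀ h : H, h • a ∈ U) → ∀ w, w ∈ U := by
    intro U h1 h2 w
    rw [P.gen U h1 h2]
    exact mem_top w
  have b : Base ρ.range (p y) := by
    refine ⟨y0, ?_, ?_, ?_⟩
    · rintro _ ⟨h, rfl⟩
      exact hy h
    · rintro _ ⟨h, rfl⟩ h1
      have h2 : h = 1 := P.faith h fun w => by
        rw [pd, ← hρ]
        exact h1 (p w)
      rw [h2, map_one]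
    · intro N₀ hN₀ hn hp
      have hN1 : (N₀.comap ρ).Normal := ⟨fun x hx g => by
        rw [mem_comap, map_mul, map_mul, map_inv]
        exact hn _ ⟨g, rfl⟩ _ hx⟩
      have hN2 : IsPGroup 2 (N₀.comap ρ) := hp.comap_of_injective ρ hinj
      have hNT := le_of_normal P.two P.ndvd hN1 hN2
      rw [eq_bot_iff]
      intro φ hφ
      obtain ⟨g, rfl⟩ := hN₀ hφ
      rw [mem_bot]
      have hg : g = 1 := by
        refine P.faith g fun w => ?_
        let U : Subgroup W :=
          { carrier := {w | ∀ x ∈ N₀.comap ρ, (x • w) * w⁻¹ ∈ R}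
            one_mem' := fun x _ => by rw [smul_one, mul_inv_cancel]; exact one_mem _
            mul_mem' := by
              intro v w hv hw x hx
              have e : (x • (v * w)) * (v * w)⁻¹ = ((x • v) * v⁻¹) * ((x • w) * w⁻¹) := by
                rw [smul_mul', mul_inv_rev]
                calc x • v * x • w * (w⁻¹ * v⁻¹) = x • v * (x • w * w⁻¹) * v⁻¹ := by group
                  _ = _ := by rw [mul_assoc, mul_comm (x • w * w⁻¹) v⁻¹, mul_assoc]
              rw [e]
              exact R.mul_mem (hv x hx) (hw x hx)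
            inv_mem' := by
              intro w hw x hx
              have e : (x • w⁻¹) * w⁻¹⁻¹ = ((x • w) * w⁻¹)⁻¹ := by
                rw [smul_inv', inv_inv, mul_inv_rev, inv_inv, mul_comm]
              rw [e]
              exact R.inv_mem (hw x hx) }
        have hU := hgen U ?_ ?_ w
        · exact hU g hφ
        · intro r hr x _
          rw [P.fixR x r hr, mul_inv_cancel]; exact one_mem _
        · intro h x hx
          have h1 : h⁻¹ * x * h ∈ T := hNT (by
            have := hN1.conj_mem x hx h⁻¹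
            rwa [inv_inv] at this)
          have h2 := P.act _ h1
          have h3 : h • ((h⁻¹ * x * h) • a * a⁻¹) = (x • h • a) * (h • a)⁻¹ := by
            rw [smul_mul', ← mul_smul, smul_inv', ← mul_smul]
            congr 2; group
          rw [← h3, P.fixR h _ h2]
          exact h2
      rw [hg, map_one]
  -- the line
  let L : Submodule (ZMod 2) W' :=
    { carrier := {v | v = 0 ∨ v = p y ∨ v = p a ∨ v = p a + p y}
      zero_mem' := Or.inl rfl
      add_mem' := by
        have e1 := addself (p y)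
        have e2 := addself (p a)
        rintro v w (rfl | rfl | rfl | rfl) (rfl | rfl | rfl | rfl)
        · left; simp
        · right; left; simp
        · right; right; left; simp
        · right; right; right; simp
        · right; left; simp
        · left; exact e1
        · right; right; right; exact add_comm _ _
        · right; right; left
          calc p y + (p a + p y) = p a + (p y + p y) := by abel
            _ = p a := by rw [e1, add_zero]
        · right; right; left; simp
        · right; right; right; rfl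
        · left; exact e2
        · right; left
          calc p a + (p a + p y) = (p a + p a) + p y := by abel
            _ = p y := by rw [e2, zero_add]
        · right; right; right; simp
        · right; right; left
          calc p a + p y + p y = p a + (p y + p y) := by abel
            _ = p a := by rw [e1, add_zero]
        · right; left
          calc p a + p y + p a = (p a + p a) + p y := by abel
            _ = p y := by rw [e2, zero_add]
        · left
          calc p a + p y + (p a + p y) = (p a + p a) + (p y + p y) := by abel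
            _ = 0 := by rw [e1, e2, add_zero]
      smul_mem' := by
        intro c x hx
        rcases z2 c with rfl | rfl
        · rw [zero_smul]; exact Or.inl rfl
        · rw [one_smul]; exact hx }
  have hL : ∀ v, v ∈ L ↔ v = 0 ∨ v = p y ∨ v = p a ∨ v = p a + p y := fun _ => Iff.rfl
  have hcard : Nat.card L = 4 := by
    have h1 : (L : Set W') = (({0, p y, p a, p a + p y} : Finset W') : Set W') := by
      ext x
      simp only [SetLike.mem_coe, hL, Finset.coe_insert, Finset.coe_singleton, Set.mem_insert_iff,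
        Set.mem_singleton_iff]
    have h2 : Nat.card L = (L : Set W').ncard := rfl
    rw [h2, h1, Set.ncard_coe_finset]
    have n1 : (0 : W') ∉ ({p y, p a, p a + p y} : Finset W') := by
      simp only [Finset.mem_insert, Finset.mem_singleton]
      rintro (h | h | h)
      · exact y0 h.symm
      · exact a0 h.symm
      · exact ay (Tvw.eq_of_add_eq_zero' h.symm)
    have n2 : p y ∉ ({p a, p a + p y} : Finset W') := by
      simp only [Finset.mem_insert, Finset.mem_singleton]
      rintro (h | h)
      · exact ay h.symm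
      · exact a0 (by simpa using h.symm)
    have n3 : p a ∉ ({p a + p y} : Finset W') := by
      simp only [Finset.mem_singleton]
      intro h
      exact y0 (by simpa using h.symm)
    rw [Finset.card_insert_of_notMem n1, Finset.card_insert_of_notMem n2, Finset.card_insert_of_notMem n3,
      Finset.card_singleton]
  have hyL : p y ∈ L := Or.inr (Or.inl rfl)
  have haL : p a ∈ L := Or.inr (Or.inr (Or.inl rfl))
  have hTL : ∀ t ∈ T.map ρ, ∀ v ∈ L, t v ∈ L := by
    rintro _ ⟨t, ht, rfl⟩ v hv
    have h1 : ρ t (p a) ∈ L := by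
      rcases hpt t ht with h | h <;> rw [h]
      · exact haL
      · exact L.add_mem haL hyL
    rcases (hL v).1 hv with rfl | rfl | rfl | rfl
    · rw [map_zero]; exact L.zero_mem
    · rw [hy]; exact hyL
    · exact h1
    · rw [map_add, hy]; exact L.add_mem h1 hyL
  have hTH : T.map ρ ≤ ρ.range := by
    rintro _ ⟨t, -, rfl⟩; exact ⟨t, rfl⟩
  have hsyl : ¬ 2 ∣ (T.map ρ).relIndex ρ.range := by
    rw [MonoidHom.range_eq_map, relIndex_map_map_of_injective _ _ hinj, relIndex_top_right]
    exact P.ndvd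
  have hK : IsKGroupWith IsKnownSimple' ρ.range :=
    ML.Final.kgroup_of_surj P.known (⊤ : Subgroup H) (ρ.rangeRestrict.comp (⊤ : Subgroup H).subtype) (by
      intro x
      obtain ⟨h, rfl⟩ := ρ.rangeRestrict_surjective x
      exact ⟨⟨h, mem_top h⟩, rfl⟩)
  have hgen' : ∀ U : Submodule (ZMod 2) W', (∀ h ∈ ρ.range, ∀ v ∈ L, h v ∈ U) → U = ⊤ := by
    intro U hU
    rw [eq_top_iff]
    intro w _
    obtain ⟨w, rfl⟩ := hps w
    let U' : Subgroup W :=
      { carrier := {w | p w ∈ U}
        one_mem' := by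
          change p 1 ∈ U
          rw [hp1]; exact U.zero_mem
        mul_mem' := by
          intro v w hv hw
          change p (v * w) ∈ U
          rw [hpm]; exact U.add_mem hv hw
        inv_mem' := by
          intro v hv
          change p v⁻¹ ∈ U
          rw [hpi]; exact hv }
    refine hgen U' ?_ ?_ w
    · intro r hr
      change p r ∈ U
      rcases (pR r).1 hr with h | h <;> rw [h]
      · exact U.zero_mem
      · exact hU 1 (one_mem _) _ hyL
    · intro h
      change p (h • a) ∈ U
      rw [← hρ]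
      exact hU _ ⟨h, rfl⟩ _ haL
  have hfixT : ∀ w : W', (∀ t ∈ T.map ρ, t w = w) → w = 0 ∨ w = p y := by
    intro w hw
    obtain ⟨w, rfl⟩ := hps w
    rw [← pR]
    refine P.fixT w fun t ht => ?_
    rw [pd0, ← hρ]
    exact hw _ ⟨t, ht, rfl⟩
  have S : Sw ρ.range (p y) (T.map ρ) (N.map ρ) L :=
    { known := hK, base := b, TH := hTH, two := P.two.map ρ, syl := hsyl, fixT := hfixT, card := hcard
      yL := hyL, TL := hTL
      swap := by
        obtain ⟨t, ht, e⟩ := P.full
        have h1 : ρ t (p a) = p a + p y := by rw [hρ, e, hpm]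
        intro v hv v0 vy
        refine ⟨ρ t, ⟨t, ht, rfl⟩, ?_⟩
        rcases (hL v).1 hv with rfl | rfl | rfl | rfl
        · exact absurd rfl v0
        · exact absurd rfl vy
        · exact h1
        · rw [map_add, h1, hy]
      gen := hgen'
      NH := by rintro _ ⟨t, -, rfl⟩; exact ⟨t, rfl⟩
      N2 := P.N2.map ρ
      NL := by
        rintro _ ⟨n, hn, rfl⟩ v hv
        have h1 : ρ n (p a) = p a := by rw [hρ, P.NL n hn]
        rcases (hL v).1 hv with rfl | rfl | rfl | rfl
        · rw [map_zero]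
        · rw [hy]
        · exact h1
        · rw [map_add, h1, hy]
      Nn := by
        rintro _ ⟨h, rfl⟩ hh _ ⟨n, hn, rfl⟩
        refine ⟨h * n * h⁻¹, P.Nn h ?_ n hn, by rw [map_mul, map_mul, map_inv]⟩
        have h1 := hh _ haL
        rw [hρ] at h1
        have h2 : h • a ∉ R := by
          intro hr
          have h3 := P.fixR h⁻¹ _ hr
          rw [inv_smul_smul] at h3
          rw [← h3] at hr
          exact P.aR hr
        rw [pR] at h2
        push Not at h2
        rw [pd]
        rcases (hL _).1 h1 with e | e | e | e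
        · exact absurd e h2.1
        · exact absurd e h2.2
        · exact Or.inl e
        · exact Or.inr e
      no := fun Q hQH hQ hQL hQn B hB hB2 =>
        no_of hML hK b hTH (P.two.map ρ) hsyl hcard hyL hTL hgen' hQH hQ hQL hQn hB hB2 }
  have hcm : ∀ w, w ∈ cv W (A : Set H) ↔ p w ∈ cm (p y) (A.map ρ) := by
    intro w
    constructor
    · rintro hw _ ⟨x, hx, rfl⟩
      left
      rw [hρ, mem_cv.1 hw x hx]
    · intro hw
      rw [mem_cv]
      refine P.fix w fun x hx => ?_
      rw [pd, ← hρ]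
      exact hw _ ⟨x, hx, rfl⟩
  have hR0c : R₀ ≤ cv W (A : Set H) := fun r hr => mem_cv.2 fun x _ => P.fixR x r (P.R0R hr)
  have e1 := card_of p hps hpm hpk hR0c hcm
  have e2 := card_of p hps hpm hpk (U := ⊤) (S := Set.univ) le_top fun w => ⟨fun _ => trivial, fun _ => mem_top _⟩
  have e3 : Nat.card (A.map ρ) = Nat.card A := card_map_of_injective hinj
  have hex : MEx (p y) (A.map ρ) := by
    have h1 := P.ex
    rw [e1] at h1
    rw [card_top, Nat.card_univ] at e2
    rw [e2] at h1
    show Nat.card (A.map ρ) * Nat.card (cm (p y) (A.map ρ)) = Nat.card W'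
    rw [e3]
    have hpos : 0 < Nat.card R₀ := Nat.card_pos
    refine Nat.eq_of_mul_eq_mul_left hpos ?_
    rw [← h1]; ring
  have X : Ax (p y) (N.map ρ) (A.map ρ) := by
    refine ⟨map_mono P.AN, ?_, ?_, hex, ?_⟩
    · rintro _ ⟨x, hx, rfl⟩
      rw [← map_mul, P.Asq x hx, map_one]
    · rintro _ ⟨x, hx, rfl⟩ _ ⟨z, hz, rfl⟩ w
      obtain ⟨w, rfl⟩ := hps w
      have h1 : ρ x (p w) + p w = p ((x • w) * w⁻¹) := by rw [hρ, hpm, hpi]
      rw [h1, hρ, P.quad x hx z hz]
    · intro w hw _ ⟨x, hx, e⟩
      obtain ⟨w, rfl⟩ := hps w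
      rw [← e, hρ]
      rw [mem_cv.1 ((hcm w).2 hw) x hx]
  obtain ⟨_, ⟨g, hg, rfl⟩, θ, f, d, hθ0, hθy, hf, hgw, -⟩ :=
    hP W' ρ.range (p y) (T.map ρ) (N.map ρ) (A.map ρ) L S X (by
      intro h
      rw [map_eq_bot_iff_of_injective _ hinj] at h
      exact P.Ane h)
  refine ⟨g, hg, ?_, ?_⟩
  · rintro rfl
    apply hf
    ext w
    rcases z2 (f w) with h | h
    · exact h
    · exfalso
      have h1 := hgw w
      rw [map_one, h, one_smul] at h1
      change w = _ at h1
      rcases z2 (d w) with h2 | h2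
      · rw [h2, zero_smul, add_zero] at h1
        exact hθ0 (by simpa using h1.symm)
      · rw [h2, one_smul, add_assoc] at h1
        have h3 : θ + p y = 0 := by simpa using h1.symm
        exact hθy (Tvw.eq_of_add_eq_zero' h3)
  · have key : ∀ w, f (p w) = 0 → (g • w) * w⁻¹ ∈ R := by
      intro w hw
      rw [pd, ← hρ, hgw, hw, zero_smul, add_zero]
      rcases z2 (d (p w)) with h2 | h2 <;> rw [h2]
      · left; rw [zero_smul, add_zero]
      · right; rw [one_smul]
    intro v w
    rcases z2 (f (p v)) with h1 | h1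
    · exact Or.inl (key v h1)
    · rcases z2 (f (p w)) with h2 | h2
      · exact Or.inr (Or.inl (key w h2))
      · refine Or.inr (Or.inr (key _ ?_))
        rw [hpm, map_add, h1, h2]
        rfl

end Cfsg.Agent.Omega.FOne.Q
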